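import Groth.Agent.FreeJ.Reduce
import Groth.Agent.CohTopX.Basic
import Groth.Agent.SiteCoh.Terminal
import Groth.Agent.S0459
import Groth.Agent.S0457
import Mathlib.Topology.KrullDimension

/-!
Grothendieck vanishing.
-/

set_option autoImplicit false
set_option linter.style.haveILetI false
set_option linter.unusedSectionVars false
set_option backward.isDefEq.respectTransparency false
set_option backward.isDefEq.respectTransparency.types false

universe u

open CategoryTheory Category Limits Opposite TopologicalSpace Abelian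
open Groth.Agent.TopPullModel Groth.Agent.TopCompact

namespace Groth.Agent.FreeJ

/-- Cohomology over the whole space. -/
theorem subsingleton_H_iff {X : TopCat.{u}} (G : CohTop.Ab X) (p : ℕ) :
    Subsingleton (CohTop.H G p) ↔ Subsingleton (Ext (fr (⊤ : Opens X)) G p) :=
  (SiteCoh.huTerminalEquiv (Opens.grothendieckTopology X) (T := (⊤ : Opens X)) isTerminalTop G p).toEquiv.subsingleton_congr

variable {X : TopCat.{u}} {G : CohTop.Ab X}

theorem isZero_of_stalks (h : ∀ x, Subsingleton (CohTop.stalk G x)) : IsZero G := by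
  rw [IsZero.iff_id_eq_zero]
  refine Sheaf.hom_ext (NatTrans.ext (funext fun W => AddCommGrpCat.ext fun (s : G.obj.obj W) => ?_))
  exact gm_ext G W.unop _ _ fun x hx => (h x).elim _ _

theorem subsingleton_of_isZero (h : IsZero G) (p : ℕ) : Subsingleton (CohTop.H G p) := by
  refine (subsingleton_H_iff G p).2 (subsingleton_of_forall_eq 0 fun x => ?_)
  rw [← Ext.comp_mk₀_id x, h.eq_of_src (𝟙 G) 0, Ext.mk₀_zero, Ext.comp_zero]

/-- Sheaves with stalks vanishing on an open live on its complement. -/
theorem subsingleton_H_of_support (U : Opens X) (hG : ∀ x ∈ U, Subsingleton (CohTop.stalk G x)) (p : ℕ)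
    (h : ∀ M : CohTop.Ab (TopCat.of ((U : Set X)ᶜ : Set X)), Subsingleton (CohTop.H M p)) :
    Subsingleton (CohTop.H G p) := by
  obtain ⟨M, ⟨e⟩⟩ := CohTopX.exists_push_iso U G fun V hV =>
    ⟨fun a b => gm_ext G V a b fun x hx => (hG x (hV hx)).elim _ _⟩
  haveI := h M
  obtain ⟨f⟩ := S0459.result _ (CohTopX.isClosedEmbedding_inclCompl U) M p
  have h1 : Subsingleton (CohTop.H ((CohTop.push (CohCx.inclCompl U)).obj M) p) :=
    f.symm.toEquiv.subsingleton
  refine (subsingleton_H_iff G p).2 (subsingleton_of_forall_eq 0 fun x => ?_)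
  have h2 := (subsingleton_H_iff _ p).1 h1
  have hx : (x.comp (Ext.mk₀ e.inv) (add_zero p)).comp (Ext.mk₀ e.hom) (add_zero p) = x := by
    rw [TopQC.comp_mk₀_mk₀, e.inv_hom_id, Ext.comp_mk₀_id]
  rw [← hx, h2.elim (x.comp (Ext.mk₀ e.inv) (add_zero p)) 0, Ext.zero_comp]

/-- Vanishing in degrees from `n` on for Noetherian spaces of dimension less than `n`. -/
def Vanishes (n : ℕ) : Prop :=
  ∀ (X : TopCat.{u}) [NoetherianSpace X], topologicalKrullDim X < n → ∀ (F : CohTop.Ab X) (p : ℕ),
    n ≤ p → Subsingleton (CohTop.H F p)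

theorem dim_lt_of_proper {Z : Type u} [TopologicalSpace Z] [IrreducibleSpace Z] {n : ℕ}
    (hZ : topologicalKrullDim Z < (n + 1 : ℕ)) (s : Set Z) (hs : IsClosed s) (hne : s ≠ Set.univ) :
    topologicalKrullDim s < (n : ℕ) := by
  by_contra h
  obtain ⟨l, hl⟩ := Order.le_krullDim_iff.1 (not_lt.1 h)
  let l' := l.map (IrreducibleCloseds.map Subtype.val continuous_subtype_val)
    (IrreducibleCloseds.map_strictMono_of_isInducing Topology.IsInducing.subtypeVal)
  let top : IrreducibleCloseds Z := ⟨Set.univ, IrreducibleSpace.isIrreducible_univ Z, isClosed_univ⟩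
  have hlt : l'.last < top := by
    have hsub : (l'.last : Set Z) ⊆ s := by
      refine (closure_mono (Set.image_subset_iff.2 fun z _ => z.2)).trans ?_
      rw [hs.closure_eq]
    refine lt_of_le_of_ne (fun z _ => Set.mem_univ z) fun e => hne (Set.univ_subset_iff.1 ?_)
    exact (congrArg (fun c : IrreducibleCloseds Z => (c : Set Z)) e).symm.subset.trans hsub
  have := Order.LTSeries.length_le_krullDim (l'.snoc top hlt)
  refine not_le.2 hZ ?_
  refine le_trans ?_ this
  simp [l', hl, RelSeries.snoc]

theorem vanishes_succ {n : ℕ} (ih : Vanishes.{u} n) : Vanishes.{u} (n + 1) := by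
  intro X _ hdim
  have hc : ∀ U : Opens X, IsCompact (U : Set X) := fun U => NoetherianSpace.isCompact _
  suffices ∀ U : Opens X, ∀ G : CohTop.Ab X, (∀ x ∈ U, Subsingleton (CohTop.stalk G x)) →
      ∀ p, n + 1 ≤ p → Subsingleton (CohTop.H G p) from
    fun F p hp => this ⊥ F (fun x hx => absurd hx (by simp)) p hp
  intro U
  induction U using (wellFounded_gt (α := Opens X)).induction with
  | h U hU =>
    intro G hG p hp
    by_cases hirr : IsIrreducible ((U : Set X)ᶜ)
    · refine subsingleton_H_of_support U hG p fun M => ?_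
      let Z := TopCat.of ((U : Set X)ᶜ : Set X)
      haveI : IrreducibleSpace Z := Subtype.irreducibleSpace hirr
      haveI : NoetherianSpace Z := NoetherianSpace.set _
      haveI : PrespectralSpace Z := ⟨isTopologicalBasis_of_isOpen_of_nhds (fun U hU => hU.1)
        fun x W hxW hW => ⟨W, ⟨hW, NoetherianSpace.isCompact _⟩, hxW, subset_rfl⟩⟩
      haveI : QuasiSeparatedSpace Z := ⟨fun U V _ _ _ _ => NoetherianSpace.isCompact _⟩
      have hdZ : topologicalKrullDim Z < (n + 1 : ℕ) := (topologicalKrullDim_subspace_le X _).trans_lt hdim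
      refine (subsingleton_H_iff M p).2 (sh_all (d := n) (fun V _ q hq => ?_) M p (by omega))
      obtain ⟨q, rfl⟩ : ∃ q', q = q' + 1 := ⟨q - 1, by omega⟩
      rcases eq_or_ne V ⊥ with rfl | hV
      · exact (subsingleton_H_iff _ _).1 (subsingleton_of_isZero (isZero_of_stalks fun x =>
          subsingleton_stalk ⊥ x (by simp)) _)
      let t := (fr (⊤ : Opens Z)).obj.map (homOfLE (le_top : V ≤ ⊤)).op (one ⊤)
      let φ : fr V ⟶ fr (⊤ : Opens Z) := secHom V t
      haveI : Mono φ := mono_of_stalk φ fun x => (injective_iff_map_eq_zero _).2 fun a ha => by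
        by_cases hx : x ∈ V
        · obtain ⟨k, rfl⟩ := exists_eq_zsmul V x hx a
          rw [stMap_secHom, gm_res] at ha
          rw [zsmul_g1_eq_zero ⊤ x trivial k ha, zero_zsmul]
        · exact (subsingleton_stalk V x hx).elim _ _
      let S₀ : ShortComplex (CohTop.Ab Z) := ShortComplex.mk φ (cokernel.π φ) (cokernel.condition φ)
      have hS₀ : S₀.ShortExact := { exact := ShortComplex.exact_of_g_is_cokernel _ (cokernelIsCokernel φ) }
      haveI : Subsingleton (Ext (fr (⊤ : Opens Z)) S₀.X₂ (q + 1)) := by
        refine (subsingleton_H_iff _ _).1 ?_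
        haveI := S0457.result (X := Z) (ULift.{u} ℤ) q
        refine (subsingleton_H_iff _ _).2 (subsingleton_of_forall_eq 0 fun x => ?_)
        let e := SiteCoh.freeTerminalIso (Opens.grothendieckTopology Z) (T := (⊤ : Opens Z)) isTerminalTop
        have hx : (x.comp (Ext.mk₀ e.hom) (add_zero _)).comp (Ext.mk₀ e.inv) (add_zero _) = x := by
          rw [TopQC.comp_mk₀_mk₀, e.hom_inv_id, Ext.comp_mk₀_id]
        have h2 : Subsingleton (Ext (fr (⊤ : Opens Z)) (CohTop.const Z (ULift.{u} ℤ)) (q + 1)) :=
          (subsingleton_H_iff _ _).1 inferInstance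
        exact hx.symm.trans ((congrArg (fun y => Ext.comp y (Ext.mk₀ e.inv) (add_zero _))
          (h2.elim _ 0)).trans (Ext.zero_comp _ _ _ _ _))
      haveI : Subsingleton (Ext (fr (⊤ : Opens Z)) S₀.X₃ q) := by
        refine (subsingleton_H_iff _ _).1 ?_
        refine subsingleton_H_of_support V (fun x hx => subsingleton_of_forall_eq 0 fun c => ?_) q fun M' => ?_
        · obtain ⟨b, rfl⟩ := stalk_surjective_of_epi (cokernel.π φ) x c
          obtain ⟨k, rfl⟩ := exists_eq_zsmul (⊤ : Opens Z) x trivial b
          have : k • g1 (⊤ : Opens Z) x trivial = stMap φ x (k • g1 V x hx) := by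
            rw [stMap_secHom, gm_res]
          rw [this, ← stMap_comp_apply, cokernel.condition, stMap_zero_apply]
        · haveI : NoetherianSpace (TopCat.of ((V : Set Z)ᶜ : Set Z)) := NoetherianSpace.set _
          refine ih _ ?_ M' q (by omega)
          refine dim_lt_of_proper hdZ _ V.isOpen.isClosed_compl fun e => hV ?_
          exact Opens.ext (compl_eq_top.1 e)
      exact SiteCoh.subsingleton_ext_succ hS₀ _ q
    · by_cases hne : ((U : Set X)ᶜ).Nonempty
      · have hpre : ¬ IsPreirreducible ((U : Set X)ᶜ) := fun h => hirr ⟨hne, h⟩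
        simp only [IsPreirreducible, not_forall] at hpre
        obtain ⟨u, v, hu, hv, hZu, hZv, hempty⟩ := hpre
        let u' : Opens X := ⟨u, hu⟩
        let v' : Opens X := ⟨v, hv⟩
        have hsub : ∀ x ∈ u', x ∈ v' → x ∈ U := fun x hxu hxv => by
          by_contra hxU
          exact hempty ⟨x, hxU, hxu, hxv⟩
        have hgt : ∀ w : Opens X, (((U : Set X)ᶜ) ∩ w).Nonempty → U < U ⊔ w := fun w ⟨x, hxU, hxw⟩ =>
          lt_of_le_of_ne le_sup_left fun e => hxU (e.symm.le (Or.inr hxw))
        classical
        let S : ∀ x, AddSubgroup (CohTop.stalk G x) := fun x => if x ∈ u' then ⊤ else ⊥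
        have hS : OpenCond G S := fun x a ha => by
          by_cases hx : x ∈ u'
          · obtain ⟨O, hO, s, rfl⟩ := exists_gm_eq G a
            refine ⟨O ⊓ u', ⟨hO, hx⟩, G.obj.map (homOfLE inf_le_left).op s, gm_res G _ x _ s, fun y hy => ?_⟩
            show _ ∈ if y ∈ u' then (⊤ : AddSubgroup _) else ⊥
            rw [if_pos (show y ∈ u' from hy.2)]
            exact AddSubgroup.mem_top _
          · simp only [S, if_neg hx, AddSubgroup.mem_bot] at ha
            exact ⟨⊤, trivial, 0, by rw [map_zero, ha], zero_mem _⟩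
        let S₀ : ShortComplex (CohTop.Ab X) :=
          ShortComplex.mk (incl G S) (cokernel.π (incl G S)) (cokernel.condition _)
        have hS₀ : S₀.ShortExact := { exact := ShortComplex.exact_of_g_is_cokernel _ (cokernelIsCokernel _) }
        have h1 : Subsingleton (CohTop.H S₀.X₁ p) := hU (U ⊔ v') (hgt v' hZv) S₀.X₁
          (fun x hx => subsingleton_of_forall_eq 0 fun a => stalk_injective_of_mono (incl G S) x (by
            rw [map_zero]
            have hm := stMap_incl_mem G S x a
            by_cases hxU : x ∈ U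
            · exact (hG x hxU).elim _ _
            have hxu : x ∉ u' := fun h => hxU (hsub x h (hx.resolve_left hxU))
            simp only [S, if_neg hxu, AddSubgroup.mem_bot] at hm
            exact hm)) p hp
        have h3 : Subsingleton (CohTop.H S₀.X₃ p) := hU (U ⊔ u') (hgt u' hZu) S₀.X₃
          (fun x hx => subsingleton_of_forall_eq 0 fun c => by
            obtain ⟨b, rfl⟩ := stalk_surjective_of_epi (cokernel.π (incl G S)) x c
            by_cases hxU : x ∈ U
            · rw [(hG x hxU).elim b 0, map_zero]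
            obtain ⟨a, rfl⟩ := exists_stMap_incl hS x b (by
              show _ ∈ if x ∈ u' then (⊤ : AddSubgroup _) else ⊥
              rw [if_pos (show x ∈ u' from hx.resolve_left hxU)]
              exact AddSubgroup.mem_top _)
            rw [← stMap_comp_apply, cokernel.condition, stMap_zero_apply]) p hp
        haveI := (subsingleton_H_iff _ _).1 h1
        haveI := (subsingleton_H_iff _ _).1 h3
        refine (subsingleton_H_iff _ _).2 (subsingleton_of_forall_eq 0 fun x => ?_)
        obtain ⟨x₁, rfl⟩ := Ext.covariant_sequence_exact₂ _ hS₀ x (Subsingleton.elim _ _)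
        rw [Subsingleton.elim x₁ 0, Ext.zero_comp]
      · exact subsingleton_of_isZero (isZero_of_stalks fun x => hG x (by
          by_contra hx
          exact hne ⟨x, hx⟩)) p

theorem vanishes : ∀ n : ℕ, Vanishes.{u} n
  | 0 => fun X _ hX F p _ => subsingleton_of_isZero (isZero_of_stalks fun x => by
      exfalso
      haveI : Nonempty (IrreducibleCloseds X) :=
        ⟨⟨closure {x}, isIrreducible_singleton.closure, isClosed_closure⟩⟩
      exact not_le.2 hX (Order.krullDim_nonneg (α := IrreducibleCloseds X))) p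
  | n + 1 => vanishes_succ (vanishes n)

end Groth.Agent.FreeJ
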