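import Groth.Agent.FreeJ.Vanish

/-!
Vanishing in high degrees follows from vanishing for free sheaves on quasi-compact opens.
-/

set_option autoImplicit false
set_option linter.style.haveILetI false
set_option linter.unusedSectionVars false
set_option backward.isDefEq.respectTransparency false
set_option backward.isDefEq.respectTransparency.types false

universe u

open CategoryTheory Category Limits Opposite TopologicalSpace Abelian
open Groth.Agent.TopPullModel Groth.Agent.TopCompact

namespace Groth.Agent.FreeJ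

variable {X : TopCat.{u}} {F : CohTop.Ab X} {G H : Type u}

theorem spanSt_comp [DecidableEq G] (V : G → Opens X) (s : ∀ g, F.obj.obj (op (V g))) (f : H → G) (T : Finset H) (x : X) :
    spanSt (fun h => V (f h)) (fun h => s (f h)) T x = spanSt V s (T.image f) x :=
  le_antisymm (spanSt_le _ _ _ (fun g hg x hx => gm_mem_spanSt V s (Finset.mem_image_of_mem f hg) x hx) x)
    (spanSt_le V s _ (fun g hg x hx => by
      obtain ⟨h, hh, rfl⟩ := Finset.mem_image.1 hg
      exact gm_mem_spanSt (fun h => V (f h)) (fun h => s (f h)) hh x hx) x)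

theorem spanSt_insert [DecidableEq G] (V : G → Opens X) (s : ∀ g, F.obj.obj (op (V g))) (g : G) (T : Finset G) (x : X) :
    spanSt V s (insert g T) x = spanSt V s T x ⊔ spanSt V s {g} x := by
  refine le_antisymm (spanSt_le V s (fun x => spanSt V s T x ⊔ spanSt V s {g} x) (fun a ha x hx => ?_) x)
    (sup_le (spanSt_mono V s (Finset.subset_insert g T) x) (spanSt_mono V s (by simp) x))
  obtain rfl | ha := Finset.mem_insert.1 ha
  · exact AddSubgroup.mem_sup_right (gm_mem_spanSt V s (Finset.mem_singleton_self _) x hx)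
  · exact AddSubgroup.mem_sup_left (gm_mem_spanSt V s ha x hx)

theorem spanSt_singleton_le (V : G → Opens X) (s : ∀ g, F.obj.obj (op (V g))) (g : G) (x : X) (hx : x ∈ V g) :
    spanSt V s {g} x ≤ AddSubgroup.zmultiples (gm F (V g) x hx (s g)) := by
  refine (AddSubgroup.closure_le _).2 fun a ha => ?_
  obtain ⟨g', hg', _, rfl⟩ := Set.mem_iUnion₂.1 ha
  obtain rfl := Finset.mem_singleton.1 hg'
  exact AddSubgroup.mem_zmultiples _

theorem spanSt_singleton_eq_bot (V : G → Opens X) (s : ∀ g, F.obj.obj (op (V g))) (g : G) (x : X) (hx : x ∉ V g) :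
    spanSt V s {g} x = ⊥ := by
  refine le_bot_iff.1 ((AddSubgroup.closure_le _).2 fun a ha => ?_)
  obtain ⟨g', hg', hx', rfl⟩ := Set.mem_iUnion₂.1 ha
  obtain rfl := Finset.mem_singleton.1 hg'
  exact absurd hx' hx

/-- Indices of generators of subsheaves of a free sheaf. -/
def GenU (U : Opens X) : Type u := {V : Opens X // IsCompact (V : Set X) ∧ V ≤ U} × ℤ

variable {U : Opens X}

/-- The generators of subsheaves of a free sheaf. -/
noncomputable def secU (g : GenU U) : (fr U).obj.obj (op g.1.1) :=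
  g.2 • (fr U).obj.map (homOfLE g.1.2.2).op (one U)

theorem gm_secU (g : GenU U) (x : X) (hx : x ∈ g.1.1) :
    gm (fr U) g.1.1 x hx (secU g) = g.2 • g1 U x (g.1.2.2 hx) := by
  rw [secU, map_zsmul, gm_res]

/-- The coefficients. -/
def coeffs (T : Finset (GenU U)) (x : X) : AddSubgroup ℤ :=
  AddSubgroup.closure {n | ∃ g ∈ T, x ∈ g.1.1 ∧ g.2 = n}

theorem spanSt_eq_map (T : Finset (GenU U)) (x : X) (hx : x ∈ U) :
    spanSt (fun g : GenU U => g.1.1) secU T x = (coeffs T x).map (zmultiplesHom _ (g1 U x hx)) := by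
  rw [coeffs, AddMonoidHom.map_closure]
  refine congrArg AddSubgroup.closure (Set.ext fun a => ?_)
  simp only [Set.mem_iUnion, germs1, Set.mem_setOf_eq, Set.mem_image, zmultiplesHom_apply]
  constructor
  · rintro ⟨g, hg, hx', rfl⟩
    exact ⟨g.2, ⟨g, hg, hx', rfl⟩, (gm_secU g x hx').symm⟩
  · rintro ⟨n, ⟨g, hg, hx', rfl⟩, rfl⟩
    exact ⟨g, hg, hx', gm_secU g x hx'⟩

theorem injective_zmultiplesHom_g1 (x : X) (hx : x ∈ U) : Function.Injective (zmultiplesHom _ (g1 U x hx)) :=
  (injective_iff_map_eq_zero _).2 fun n hn => zsmul_g1_eq_zero U x hx n hn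

theorem coeffs_singleton (g : GenU U) (x : X) (hx : x ∈ g.1.1) : coeffs {g} x = AddSubgroup.zmultiples g.2 := by
  rw [coeffs, AddSubgroup.zmultiples_eq_closure]
  refine congrArg AddSubgroup.closure (Set.ext fun n => ?_)
  simp [hx, eq_comm]

theorem coeffs_singleton_of_not_mem (g : GenU U) (x : X) (hx : x ∉ g.1.1) : coeffs {g} x = ⊥ := by
  rw [coeffs, ← AddSubgroup.closure_empty]
  refine congrArg AddSubgroup.closure (Set.ext fun n => ?_)
  simp [hx]

theorem coeffs_insert [DecidableEq (GenU U)] (g : GenU U) (T : Finset (GenU U)) (x : X) :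
    coeffs (insert g T) x = coeffs {g} x ⊔ coeffs T x := by
  rw [coeffs, coeffs, coeffs, ← AddSubgroup.closure_union]
  refine congrArg AddSubgroup.closure (Set.ext fun n => ?_)
  simp only [Set.mem_setOf_eq, Set.mem_union, Finset.mem_insert, Finset.mem_singleton]
  exact ⟨fun ⟨a, ha, h⟩ => ha.imp (fun e => ⟨a, e, h⟩) fun hT => ⟨a, hT, h⟩,
    fun h => h.elim (fun ⟨a, e, h⟩ => ⟨a, Or.inl e, h⟩) fun ⟨a, hT, h⟩ => ⟨a, Or.inr hT, h⟩⟩

variable [PrespectralSpace X] [QuasiSeparatedSpace X]

/-- The intersection of two generators. -/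
def interGen (g g' : GenU U) : GenU U :=
  (⟨g.1.1 ⊓ g'.1.1, QuasiSeparatedSpace.inter_isCompact _ _ g.1.1.2 g.1.2.1 g'.1.1.2 g'.1.2.1,
    inf_le_left.trans g.1.2.2⟩, (Int.lcm g.2 g'.2 : ℤ))

theorem coeffs_inter [DecidableEq (GenU U)] (g : GenU U) (T : Finset (GenU U)) (x : X) :
    coeffs T x ⊓ coeffs {g} x = coeffs (T.image (interGen g)) x := by
  induction T using Finset.induction with
  | empty =>
    have : coeffs (∅ : Finset (GenU U)) x = ⊥ := by
      rw [coeffs, ← AddSubgroup.closure_empty]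
      exact congrArg AddSubgroup.closure (by simp)
    rw [Finset.image_empty, this, bot_inf_eq]
  | insert a T _ ih =>
    rw [Finset.image_insert, coeffs_insert, coeffs_insert (interGen g a), int_inf_sup, ih]
    congr 1
    by_cases hg : x ∈ g.1.1
    · by_cases ha : x ∈ a.1.1
      · rw [coeffs_singleton _ _ ha, coeffs_singleton _ _ hg, coeffs_singleton (interGen g a) x ⟨hg, ha⟩]
        ext m
        simp only [AddSubgroup.mem_inf, Int.mem_zmultiples_iff, interGen]
        rw [Int.coe_lcm_dvd_iff, and_comm]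
      · rw [coeffs_singleton_of_not_mem a x ha, bot_inf_eq,
          coeffs_singleton_of_not_mem (interGen g a) x fun h => ha h.2]
    · rw [coeffs_singleton_of_not_mem g x hg, inf_bot_eq,
        coeffs_singleton_of_not_mem (interGen g a) x fun h => hg h.1]

variable {d : ℕ} (hfree : ∀ U : Opens X, IsCompact (U : Set X) → SH d (fr U))

include hfree in
theorem sh_span_singleton (g : GenU U) :
    SH d (sub (fr U) (spanSt (fun g : GenU U => g.1.1) secU {g})) := by
  by_cases hn : g.2 = 0
  · refine SH.of_isZero (isZero_sub_bot fun x => ?_)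
    by_cases hx : x ∈ g.1.1
    · refine le_bot_iff.1 ((spanSt_singleton_le (fun g : GenU U => g.1.1) secU g x hx).trans ?_)
      rw [gm_secU, hn, zero_zsmul, AddSubgroup.zmultiples_zero_eq_bot]
    · exact spanSt_singleton_eq_bot _ _ g x hx
  let φ : fr g.1.1 ⟶ fr U := secHom g.1.1 (secU g)
  haveI : Mono φ := mono_of_stalk φ fun x => (injective_iff_map_eq_zero _).2 fun a ha => by
    by_cases hx : x ∈ g.1.1
    · obtain ⟨n, rfl⟩ := exists_eq_zsmul g.1.1 x hx a
      rw [stMap_secHom, gm_secU, smul_smul] at ha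
      rw [(mul_eq_zero.1 (zsmul_g1_eq_zero U x (g.1.2.2 hx) _ ha)).resolve_right hn, zero_zsmul]
    · exact (subsingleton_stalk g.1.1 x hx).elim _ _
  have h : ∀ x a, stMap φ x a ∈ spanSt (fun g : GenU U => g.1.1) secU {g} x :=
    stMap_secHom_mem g.1.1 (secU g) _ fun x hx => gm_mem_spanSt _ _ (Finset.mem_singleton_self g) x hx
  haveI := isIso_liftSub φ h fun x a ha => by
    by_cases hx : x ∈ g.1.1
    · obtain ⟨n, hn⟩ := AddSubgroup.mem_zmultiples_iff.1
        (spanSt_singleton_le (fun g : GenU U => g.1.1) secU g x hx ha)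
      exact ⟨n • g1 g.1.1 x hx, by rw [stMap_secHom, hn]⟩
    · rw [spanSt_singleton_eq_bot (fun g : GenU U => g.1.1) secU g x hx, AddSubgroup.mem_bot] at ha
      exact ⟨0, by rw [map_zero, ha]⟩
  exact SH.of_iso (asIso (liftSub _ _ φ h)) (hfree _ g.1.2.1)

include hfree in
theorem sh_span (T : Finset (GenU U)) : SH d (sub (fr U) (spanSt (fun g : GenU U => g.1.1) secU T)) := by
  classical
  induction hT : T.card using Nat.strong_induction_on generalizing T with
  | _ k ih =>
    rcases T.eq_empty_or_nonempty with rfl | ⟨g, hg⟩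
    · exact SH.of_isZero (isZero_sub_bot fun x => spanSt_empty _ _ x)
    have hlt : (T.erase g).card < k := hT ▸ Finset.card_erase_lt_of_mem hg
    refine SH.sub_congr (fun x => (spanSt_insert _ _ g (T.erase g) x).symm.trans (by rw [Finset.insert_erase hg]))
      (SH.sum (openCond_spanSt _ _ _) (openCond_spanSt _ _ _) (ih _ hlt _ rfl) (sh_span_singleton hfree g) ?_)
    refine SH.sub_congr (S := spanSt (fun g : GenU U => g.1.1) secU ((T.erase g).image (interGen g))) (fun x => ?_)
      (ih _ ((Finset.card_image_le).trans_lt hlt) _ rfl)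
    by_cases hx : x ∈ U
    · rw [spanSt_eq_map _ x hx, spanSt_eq_map _ x hx, spanSt_eq_map _ x hx,
        ← AddSubgroup.map_inf _ _ _ (injective_zmultiplesHom_g1 x hx), coeffs_inter]
    · haveI := subsingleton_stalk U x hx
      exact Subsingleton.elim _ _

variable [CompactSpace X]

include hfree in
/-- Subsheaves of free sheaves. -/
theorem sh_of_mono {K : CohTop.Ab X} (m : K ⟶ fr U) [Mono m] : SH d K := by
  classical
  let S : ∀ x, AddSubgroup (CohTop.stalk (fr U) x) := fun x => (stMap m x).range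
  haveI := isIso_liftSub m (S := S) (fun x a => ⟨a, rfl⟩) fun x a ha => ha
  refine SH.of_iso (asIso (liftSub (fr U) S m fun x a => ⟨a, rfl⟩)).symm ?_
  let G' := {g : GenU U // secU g ∈ secsIn (fr U) S g.1.1}
  refine SH.of_spans (G := G') (fun g => g.1.1.1) (fun g => secU g.1) S (fun g => g.2) (fun x a ha hne => ?_) fun T =>
    SH.sub_congr (fun x => (spanSt_comp (fun g : GenU U => g.1.1) secU (fun g : G' => g.1) T x).symm) (sh_span hfree _)
  have hx : x ∈ U := by
    by_contra hx
    exact hne ((subsingleton_stalk U x hx).elim _ _)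
  obtain ⟨n, rfl⟩ := exists_eq_zsmul U x hx a
  obtain ⟨b, hb⟩ := ha
  obtain ⟨O, hO, t, rfl⟩ := exists_gm_eq K b
  rw [stMap_gm] at hb
  obtain ⟨M, hM, hMO, hMU, hMe⟩ := exists_eq_near (fr U) (m.hom.app (op O) t) (n • one U) {x} (by
    intro y hy
    obtain rfl : x = y := (show y = x from hy).symm
    exact ⟨hO, hx, by rw [hb, map_zsmul]⟩)
  obtain ⟨W, hWc, hxW, hWM⟩ := TopQC.exists_compact_le (hM rfl : x ∈ M)
  let g : GenU U := (⟨W, hWc, hWM.trans hMU⟩, n)
  refine ⟨⟨g, fun y hy => ⟨gm K O y (hMO (hWM hy)) t, ?_⟩⟩, hxW, gm_secU g x hxW⟩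
  rw [stMap_gm, gm_secU, hMe y (hMO (hWM hy)) (hMU (hWM hy)) (hWM hy), map_zsmul]

include hfree in
/-- Quotients of free sheaves. -/
theorem sh_of_epi (hU : IsCompact (U : Set X)) {Q : CohTop.Ab X} (e : fr U ⟶ Q) [Epi e] : SH d Q := by
  let S₀ : ShortComplex (CohTop.Ab X) := ShortComplex.mk (kernel.ι e) e (kernel.condition e)
  have hS₀ : S₀.ShortExact := { exact := ShortComplex.exact_of_f_is_kernel _ (kernelIsKernel e) }
  exact SH.quotient hS₀ (sh_of_mono hfree (kernel.ι e)) (hfree U hU)

include hfree in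
/-- Vanishing for all sheaves. -/
theorem sh_all (F : CohTop.Ab X) : SH d F := by
  classical
  let G := Σ V : {V : Opens X // IsCompact (V : Set X)}, F.obj.obj (op V.1)
  let V : G → Opens X := fun g => g.1.1
  let s : ∀ g : G, F.obj.obj (op (V g)) := fun g => g.2
  let S : ∀ x, AddSubgroup (CohTop.stalk F x) := fun _ => ⊤
  haveI := isIso_liftSub (𝟙 F) (S := S) (fun x a => AddSubgroup.mem_top _) fun x a _ => ⟨a, by
    obtain ⟨O, hO, t, rfl⟩ := exists_gm_eq F a
    rw [stMap_gm]
    rfl⟩
  refine SH.of_iso (asIso (liftSub F S (𝟙 F) fun x a => AddSubgroup.mem_top _)).symm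
    (SH.of_spans V s S (fun g x hx => AddSubgroup.mem_top _) (fun x a _ _ => ?_) fun T => ?_)
  · obtain ⟨O, hO, t, rfl⟩ := exists_gm_eq F a
    obtain ⟨W, hWc, hxW, hWO⟩ := TopQC.exists_compact_le hO
    exact ⟨⟨⟨W, hWc⟩, F.obj.map (homOfLE hWO).op t⟩, hxW, gm_res F hWO x hxW t⟩
  induction T using Finset.induction with
  | empty => exact SH.of_isZero (isZero_sub_bot fun x => spanSt_empty _ _ x)
  | insert g T _ ih =>
    let i : sub F (spanSt V s T) ⟶ sub F (spanSt V s (insert g T)) :=
      subLE fun x => spanSt_mono V s (Finset.subset_insert g T) x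
    have hmem : ∀ x a, stMap (secHom (V g) (s g)) x a ∈ spanSt V s (insert g T) x :=
      stMap_secHom_mem (V g) (s g) _ fun x hx => gm_mem_spanSt V s (Finset.mem_insert_self g T) x hx
    let π : fr (V g) ⟶ cokernel i := liftSub F _ (secHom (V g) (s g)) hmem ≫ cokernel.π i
    haveI : Epi π := epi_of_stalk π fun x c => by
      obtain ⟨e, rfl⟩ := stalk_surjective_of_epi (cokernel.π i) x c
      have he := stMap_incl_mem F (spanSt V s (insert g T)) x e
      rw [spanSt_insert] at he
      obtain ⟨p, hp, q, hq, hpq⟩ := AddSubgroup.mem_sup.1 he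
      obtain ⟨p', hp'⟩ := exists_stMap_incl (openCond_spanSt V s T) x p hp
      obtain ⟨r, hr⟩ : ∃ r, stMap (secHom (V g) (s g)) x r = q := by
        by_cases hx : x ∈ V g
        · obtain ⟨n, hn⟩ := AddSubgroup.mem_zmultiples_iff.1 (spanSt_singleton_le V s g x hx hq)
          exact ⟨n • g1 (V g) x hx, by rw [stMap_secHom, hn]⟩
        · rw [spanSt_singleton_eq_bot V s g x hx, AddSubgroup.mem_bot] at hq
          exact ⟨0, by rw [map_zero, hq]⟩
      have e' : e = stMap i x p' + stMap (liftSub F _ (secHom (V g) (s g)) hmem) x r :=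
        stalk_injective_of_mono (incl F (spanSt V s (insert g T))) x (by
          rw [map_add, ← stMap_comp_apply, ← stMap_comp_apply, subLE_incl, liftSub_incl, hp', hr, hpq])
      refine ⟨r, ?_⟩
      rw [e', map_add, ← stMap_comp_apply, ← stMap_comp_apply, cokernel.condition, stMap_zero_apply, zero_add]
    let S₀ : ShortComplex (CohTop.Ab X) := ShortComplex.mk i (cokernel.π i) (cokernel.condition i)
    have hS₀ : S₀.ShortExact := { exact := ShortComplex.exact_of_g_is_cokernel _ (cokernelIsCokernel i) }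
    exact SH.extension hS₀ ih (sh_of_epi hfree g.1.2 π)

end Groth.Agent.FreeJ
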