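import Groth.Agent.TopQC.Basic
import Groth.Agent.SiteCoh.Basic
import Mathlib.Topology.Sheaves.Sheafify

/-!
Stalks of the free abelian sheaf on an open.
-/

set_option autoImplicit false
set_option linter.style.haveILetI false
set_option linter.unusedSectionVars false
set_option backward.isDefEq.respectTransparency false
set_option backward.isDefEq.respectTransparency.types false

universe u

open CategoryTheory Category Limits Opposite TopologicalSpace
open Groth.Agent.TopPullModel Groth.Agent.TopCompact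

namespace Groth.Agent.FreeJ

variable {X : TopCat.{u}} (U : Opens X)

/-- The presheaf of free abelian groups on the maps into an open. -/
noncomputable abbrev freePre : TopCat.Presheaf AddCommGrpCat.{u} X := yoneda.obj U ⋙ AddCommGrpCat.free.{u}

/-- The free sheaf on an open. -/
noncomputable abbrev fr : CohTop.Ab X := CohCx.freeSheaf (Opens.grothendieckTopology X) U

/-- The generator over the open. -/
noncomputable abbrev one : (fr U).obj.obj (op U) := SiteCoh.gen (Opens.grothendieckTopology X) U

/-- The generator of the stalk. -/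
noncomputable abbrev g1 (x : X) (hx : x ∈ U) : CohTop.stalk (fr U) x := gm (fr U) U x hx (one U)

/-- The map of stalks from the presheaf. -/
noncomputable def shSt (x : X) :
    TopCat.Presheaf.stalk (C := AddCommGrpCat.{u}) (freePre U) x ⟶ CohTop.stalk (fr U) x :=
  (TopCat.Presheaf.stalkFunctor AddCommGrpCat.{u} x).map
    (CategoryTheory.toSheafify (Opens.grothendieckTopology X) (freePre U))

theorem bijective_shSt (x : X) : Function.Bijective (shSt U x) :=
  (ConcreteCategory.isIso_iff_bijective _).1
    (TopCat.Presheaf.stalkFunctor_map_unit_toSheafify_isIso x AddCommGrpCat.{u} (freePre U))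

theorem shSt_one (x : X) (hx : x ∈ U) :
    shSt U x (TopCat.Presheaf.germ (C := AddCommGrpCat.{u}) (freePre U) U x hx (FreeAbelianGroup.of (𝟙 U))) = g1 U x hx :=
  TopCat.Presheaf.stalkFunctor_map_germ_apply U x hx
    (CategoryTheory.toSheafify (Opens.grothendieckTopology X) (freePre U)) _

theorem exists_eq_zsmul (x : X) (hx : x ∈ U) (a : CohTop.stalk (fr U) x) : ∃ n : ℤ, n • g1 U x hx = a := by
  obtain ⟨b, rfl⟩ := (bijective_shSt U x).2 a
  obtain ⟨W, hW, s, rfl⟩ := TopCat.Presheaf.exists_germ_eq (C := AddCommGrpCat.{u}) (freePre U) b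
  let V : Opens X := W ⊓ U
  haveI : Subsingleton (V ⟶ U) := inferInstance
  have key : ∀ t : (freePre U).obj (op V), ∃ n : ℤ,
      t = n • (freePre U).map (homOfLE (inf_le_right : V ≤ U)).op (FreeAbelianGroup.of (𝟙 U)) := fun t => by
    have e : (freePre U).map (homOfLE (inf_le_right : V ≤ U)).op (FreeAbelianGroup.of (𝟙 U)) =
        (FreeAbelianGroup.of (homOfLE inf_le_right ≫ 𝟙 U) : (freePre U).obj (op V)) := rfl
    rw [e]
    induction t using FreeAbelianGroup.induction_on with
    | zero => exact ⟨0, (zero_zsmul _).symm⟩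
    | of g => exact ⟨1, by rw [one_zsmul]; exact congrArg FreeAbelianGroup.of (Subsingleton.elim (α := V ⟶ U) _ _)⟩
    | neg g h =>
      obtain ⟨n, hn⟩ := h
      exact ⟨-n, by rw [hn, neg_zsmul]⟩
    | add a b ha hb =>
      obtain ⟨n, hn⟩ := ha
      obtain ⟨m, hm⟩ := hb
      exact ⟨n + m, by rw [hn, hm, add_zsmul]⟩
  obtain ⟨n, hn⟩ := key ((freePre U).map (homOfLE (inf_le_left : V ≤ W)).op s)
  refine ⟨n, ?_⟩
  rw [← TopCat.Presheaf.germ_res_apply (C := AddCommGrpCat.{u}) (freePre U) (homOfLE (inf_le_left : V ≤ W)) x ⟨hW, hx⟩ s,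
    hn, map_zsmul, map_zsmul, TopCat.Presheaf.germ_res_apply]
  exact congrArg (n • ·) (shSt_one U x hx).symm

theorem zsmul_g1_eq_zero (x : X) (hx : x ∈ U) (n : ℤ) (h : n • g1 U x hx = 0) : n = 0 := by
  rw [← shSt_one U x hx, ← map_zsmul, ← map_zero (shSt U x).hom] at h
  have h' := (bijective_shSt U x).1 h
  rw [← map_zsmul, ← map_zero (TopCat.Presheaf.germ (C := AddCommGrpCat.{u}) (freePre U) U x hx).hom] at h'
  obtain ⟨W, hW, i, i', e⟩ := TopCat.Presheaf.germ_eq (C := AddCommGrpCat.{u}) (freePre U) x hx hx _ _ h'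
  rw [map_zsmul, map_zero] at e
  have e' := congrArg (FreeAbelianGroup.lift fun _ : W ⟶ U => (1 : ℤ)) (show n •
    (FreeAbelianGroup.of (i ≫ 𝟙 U) : FreeAbelianGroup (W ⟶ U)) = 0 from e)
  simpa using e'

theorem subsingleton_stalk (x : X) (hx : x ∉ U) : Subsingleton (CohTop.stalk (fr U) x) := by
  refine ⟨fun a b => ?_⟩
  suffices ∀ a : CohTop.stalk (fr U) x, a = 0 by rw [this a, this b]
  intro a
  obtain ⟨b, rfl⟩ := (bijective_shSt U x).2 a
  obtain ⟨W, hW, s, rfl⟩ := TopCat.Presheaf.exists_germ_eq (C := AddCommGrpCat.{u}) (freePre U) b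
  have hs : s = 0 := by
    induction s using FreeAbelianGroup.induction_on with
    | zero => rfl
    | of g => exact absurd (leOfHom g hW) hx
    | neg g h => exact absurd (leOfHom g hW) hx
    | add a b ha hb => exact (congrArg₂ (· + ·) ha hb).trans (add_zero 0)
  rw [hs, map_zero, map_zero]

end Groth.Agent.FreeJ
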