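import Groth.Agent.FreeJ.Stalk
import Mathlib.Topology.Sheaves.SheafCondition.UniqueGluing

/-!
Subsheaves given by subgroups of the stalks.
-/

set_option autoImplicit false
set_option linter.style.haveILetI false
set_option linter.unusedSectionVars false
set_option backward.isDefEq.respectTransparency false
set_option backward.isDefEq.respectTransparency.types false

universe u

open CategoryTheory Category Limits Opposite TopologicalSpace
open Groth.Agent.TopPullModel Groth.Agent.TopCompact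

namespace Groth.Agent.FreeJ

variable {X : TopCat.{u}} {A B C F : CohTop.Ab X}

theorem stMap_comp_apply (φ : A ⟶ B) (ψ : B ⟶ C) (x : X) (a : CohTop.stalk A x) :
    stMap (φ ≫ ψ) x a = stMap ψ x (stMap φ x a) := by
  obtain ⟨O, hO, s, rfl⟩ := exists_gm_eq A a
  rw [stMap_gm, stMap_gm, stMap_gm]
  rfl

theorem stMap_zero_apply (x : X) (a : CohTop.stalk A x) : stMap (0 : A ⟶ B) x a = 0 := by
  obtain ⟨O, hO, s, rfl⟩ := exists_gm_eq A a
  rw [stMap_gm]
  exact map_zero _

theorem epi_of_stalk (φ : A ⟶ B) (h : ∀ x, Function.Surjective (stMap φ x)) : Epi φ := by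
  refine ⟨fun {C} a b e => Sheaf.hom_ext (NatTrans.ext (funext fun W => AddCommGrpCat.ext fun (s : B.obj.obj W) => ?_))⟩
  refine gm_ext C W.unop _ _ fun x hx => ?_
  obtain ⟨t, ht⟩ := h x (gm B W.unop x hx s)
  rw [← stMap_gm, ← stMap_gm, ← ht, ← stMap_comp_apply, ← stMap_comp_apply, e]

theorem mono_of_stalk (φ : A ⟶ B) (h : ∀ x, Function.Injective (stMap φ x)) : Mono φ := by
  refine ⟨fun {C} a b e => Sheaf.hom_ext (NatTrans.ext (funext fun W => AddCommGrpCat.ext fun (s : C.obj.obj W) => ?_))⟩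
  refine gm_ext A W.unop _ _ fun x hx => ?_
  rw [← stMap_gm, ← stMap_gm]
  refine h x ?_
  rw [← stMap_comp_apply, ← stMap_comp_apply, e]

theorem stalk_injective_of_mono (φ : A ⟶ B) [Mono φ] (x : X) : Function.Injective (stMap φ x) :=
  (AddCommGrpCat.mono_iff_injective ((stk x).map φ)).1 inferInstance

theorem stalk_surjective_of_epi (φ : A ⟶ B) [Epi φ] (x : X) : Function.Surjective (stMap φ x) :=
  (AddCommGrpCat.epi_iff_surjective ((stk x).map φ)).1 inferInstance

variable (F) (S : ∀ x, AddSubgroup (CohTop.stalk F x))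

/-- Sections with germs in the given subgroups. -/
def secsIn (W : Opens X) : AddSubgroup (F.obj.obj (op W)) where
  carrier := {s | ∀ (x : X) (hx : x ∈ W), gm F W x hx s ∈ S x}
  zero_mem' x hx := by
    rw [map_zero]
    exact zero_mem _
  add_mem' ha hb x hx := by
    rw [map_add]
    exact add_mem (ha x hx) (hb x hx)
  neg_mem' ha x hx := by
    rw [map_neg]
    exact neg_mem (ha x hx)

theorem res_mem {V W : (Opens X)ᵒᵖ} (i : V ⟶ W) (s : secsIn F S V.unop) :
    (F.obj.map i s.1 : F.obj.obj W) ∈ secsIn F S W.unop := fun x hx => by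
  have := s.2 x (leOfHom i.unop hx)
  rwa [show gm F W.unop x hx (F.obj.map i s.1) = gm F V.unop x (leOfHom i.unop hx) s.1 from
    gm_res F (leOfHom i.unop) x hx s.1]

/-- The presheaf of sections with germs in the given subgroups. -/
noncomputable def subPre : TopCat.Presheaf AddCommGrpCat.{u} X where
  obj W := AddCommGrpCat.of (secsIn F S W.unop)
  map {V W} i := AddCommGrpCat.ofHom (AddMonoidHom.mk' (fun s => ⟨F.obj.map i s.1, res_mem F S i s⟩)
    fun a b => Subtype.ext (map_add (F.obj.map i).hom a.1 b.1))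
  map_id V := AddCommGrpCat.ext fun (s : secsIn F S V.unop) => Subtype.ext (by
    change F.obj.map (𝟙 V) s.1 = s.1
    rw [F.obj.map_id]
    rfl)
  map_comp {V W Z} i j := AddCommGrpCat.ext fun (s : secsIn F S V.unop) => Subtype.ext (by
    change F.obj.map (i ≫ j) s.1 = F.obj.map j (F.obj.map i s.1)
    rw [F.obj.map_comp]
    rfl)

theorem subPre_isSheaf : (subPre F S).IsSheaf := by
  rw [TopCat.Presheaf.isSheaf_iff_isSheafUniqueGluing]
  intro ι U sf hc
  have hc' : TopCat.Presheaf.IsCompatible (C := AddCommGrpCat.{u}) F.obj U fun i => (sf i).1 :=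
    fun i j => congrArg Subtype.val (hc i j)
  obtain ⟨s, hs, hu⟩ := TopCat.Sheaf.existsUnique_gluing (C := AddCommGrpCat.{u}) F U (fun i => (sf i).1) hc'
  refine ⟨⟨s, fun x hx => ?_⟩, fun i => Subtype.ext (hs i), fun t ht => Subtype.ext (hu t.1 fun i => congrArg Subtype.val (ht i))⟩
  obtain ⟨i, hi⟩ := Opens.mem_iSup.1 hx
  have e : gm F (U i) x hi (sf i).1 = gm F (iSup U) x hx s :=
    (congrArg (gm F (U i) x hi) (hs i)).symm.trans (gm_res F (le_iSup U i) x hi s)
  rw [← e]
  exact (sf i).2 x hi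

/-- The subsheaf. -/
noncomputable def sub : CohTop.Ab X := ⟨subPre F S, subPre_isSheaf F S⟩

/-- The inclusion. -/
noncomputable def incl : sub F S ⟶ F :=
  ⟨{ app := fun W => AddCommGrpCat.ofHom (secsIn F S W.unop).subtype, naturality := fun V W i => rfl }⟩

instance : Mono (incl F S) := by
  refine ⟨fun {C} a b e => Sheaf.hom_ext (NatTrans.ext (funext fun W => AddCommGrpCat.ext fun (s : C.obj.obj W) => ?_))⟩
  exact Subtype.ext (congrArg (fun φ : C ⟶ F => φ.hom.app W s) e)

/-- Morphisms landing in the subsheaf. -/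
noncomputable def liftSub {T : CohTop.Ab X} (φ : T ⟶ F) (h : ∀ x a, stMap φ x a ∈ S x) : T ⟶ sub F S :=
  ⟨{ app := fun W => AddCommGrpCat.ofHom (AddMonoidHom.mk'
      (fun s : T.obj.obj W => (⟨φ.hom.app W s, fun x hx => by
        rw [← stMap_gm]
        exact h x _⟩ : secsIn F S W.unop))
      fun a b => Subtype.ext (map_add (φ.hom.app W).hom a b))
     naturality := fun V W i => AddCommGrpCat.ext fun (s : T.obj.obj V) => Subtype.ext
      (NatTrans.naturality_apply φ.hom i s) }⟩

theorem liftSub_incl {T : CohTop.Ab X} (φ : T ⟶ F) (h : ∀ x a, stMap φ x a ∈ S x) :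
    liftSub F S φ h ≫ incl F S = φ := rfl

theorem stMap_incl_mem (x : X) (a : CohTop.stalk (sub F S) x) : stMap (incl F S) x a ∈ S x := by
  obtain ⟨O, hO, (s : secsIn F S O), rfl⟩ := exists_gm_eq (sub F S) a
  rw [stMap_gm]
  exact s.2 x hO

/-- Every element spreads to a section with germs in the subgroups. -/
def OpenCond : Prop :=
  ∀ (x : X) (a : CohTop.stalk F x), a ∈ S x → ∃ (W : Opens X) (hx : x ∈ W) (s : F.obj.obj (op W)),
    gm F W x hx s = a ∧ s ∈ secsIn F S W

variable {F} {S}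

theorem exists_stMap_incl (hS : OpenCond F S) (x : X) (a : CohTop.stalk F x) (ha : a ∈ S x) :
    ∃ b, stMap (incl F S) x b = a := by
  obtain ⟨W, hx, s, rfl, hs⟩ := hS x a ha
  exact ⟨gm (sub F S) W x hx (⟨s, hs⟩ : secsIn F S W), stMap_gm _ _ _ _ _⟩

variable {S' : ∀ x, AddSubgroup (CohTop.stalk F x)}

/-- Monotonicity. -/
noncomputable def subLE (h : ∀ x, S x ≤ S' x) : sub F S ⟶ sub F S' :=
  liftSub F S' (incl F S) fun x a => h x (stMap_incl_mem F S x a)

theorem subLE_incl (h : ∀ x, S x ≤ S' x) : subLE h ≫ incl F S' = incl F S := rfl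

instance mono_subLE (h : ∀ x, S x ≤ S' x) : Mono (subLE h) := mono_of_mono_fac (subLE_incl h)

/-- A subsheaf is the subsheaf of its stalks. -/
theorem isIso_liftSub {T : CohTop.Ab X} (φ : T ⟶ F) [Mono φ] (h : ∀ x a, stMap φ x a ∈ S x)
    (h' : ∀ x, ∀ a ∈ S x, ∃ b, stMap φ x b = a) : IsIso (liftSub F S φ h) := by
  haveI : Mono (liftSub F S φ h) := mono_of_mono_fac (liftSub_incl F S φ h)
  haveI : Epi (liftSub F S φ h) := epi_of_stalk _ fun x c => by
    obtain ⟨b, hb⟩ := h' x _ (stMap_incl_mem F S x c)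
    exact ⟨b, stalk_injective_of_mono (incl F S) x (by rw [← stMap_comp_apply, liftSub_incl, hb])⟩
  exact isIso_of_mono_of_epi _

variable {G : Type u} (V : G → Opens X) (s : ∀ g, F.obj.obj (op (V g)))

/-- The germs of a section over the opens where it is defined. -/
def germs1 (g : G) (x : X) : Set (CohTop.stalk F x) :=
  {a | ∃ h : x ∈ V g, gm F (V g) x h (s g) = a}

/-- The subgroups generated by finitely many sections. -/
noncomputable def spanSt (T : Finset G) (x : X) : AddSubgroup (CohTop.stalk F x) :=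
  AddSubgroup.closure (⋃ g ∈ T, germs1 V s g x)

theorem gm_mem_spanSt {T : Finset G} {g : G} (hg : g ∈ T) (x : X) (h : x ∈ V g) :
    gm F (V g) x h (s g) ∈ spanSt V s T x :=
  AddSubgroup.subset_closure (Set.mem_iUnion₂.2 ⟨g, hg, h, rfl⟩)

theorem spanSt_mono {T T' : Finset G} (h : T ⊆ T') (x : X) : spanSt V s T x ≤ spanSt V s T' x :=
  AddSubgroup.closure_mono (Set.biUnion_subset_biUnion_left h)

theorem spanSt_empty (x : X) : spanSt V s ∅ x = ⊥ := by
  refine le_bot_iff.1 ((AddSubgroup.closure_le _).2 ?_)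
  simp

theorem spanSt_le {T : Finset G} (S : ∀ x, AddSubgroup (CohTop.stalk F x))
    (h : ∀ g ∈ T, ∀ (x : X) (hx : x ∈ V g), gm F (V g) x hx (s g) ∈ S x) (x : X) : spanSt V s T x ≤ S x := by
  refine (AddSubgroup.closure_le _).2 fun a ha => ?_
  obtain ⟨g, hg, hx, rfl⟩ := Set.mem_iUnion₂.1 ha
  exact h g hg x hx

theorem openCond_spanSt (T : Finset G) : OpenCond F (spanSt V s T) := by
  intro x a ha
  induction ha using AddSubgroup.closure_induction with
  | mem a ha =>
    obtain ⟨g, hg, hx, rfl⟩ := Set.mem_iUnion₂.1 ha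
    exact ⟨V g, hx, s g, rfl, fun y hy => gm_mem_spanSt V s hg y hy⟩
  | zero => exact ⟨⊤, trivial, 0, map_zero _, zero_mem _⟩
  | add a b _ _ ha hb =>
    obtain ⟨W, hx, t, rfl, ht⟩ := ha
    obtain ⟨W', hx', t', rfl, ht'⟩ := hb
    refine ⟨W ⊓ W', ⟨hx, hx'⟩, F.obj.map (homOfLE inf_le_left).op t + F.obj.map (homOfLE inf_le_right).op t', ?_,
      fun y hy => ?_⟩
    · rw [map_add, gm_res, gm_res]
    · rw [map_add, gm_res, gm_res]
      exact add_mem (ht y hy.1) (ht' y hy.2)
  | neg a _ ha =>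
    obtain ⟨W, hx, t, rfl, ht⟩ := ha
    exact ⟨W, hx, -t, map_neg _ _, neg_mem ht⟩

/-- The morphism given by a section. -/
noncomputable def secHom (U : Opens X) (t : F.obj.obj (op U)) : fr U ⟶ F :=
  (SiteCoh.secEquiv U F).symm t

theorem secHom_one (U : Opens X) (t : F.obj.obj (op U)) : (secHom U t).hom.app (op U) (one U) = t :=
  (SiteCoh.secEquiv U F).apply_symm_apply t

theorem stMap_secHom (U : Opens X) (t : F.obj.obj (op U)) (x : X) (hx : x ∈ U) (n : ℤ) :
    stMap (secHom U t) x (n • g1 U x hx) = n • gm F U x hx t := by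
  rw [map_zsmul, stMap_gm, secHom_one]

theorem stMap_secHom_mem (U : Opens X) (t : F.obj.obj (op U)) (S : ∀ x, AddSubgroup (CohTop.stalk F x))
    (h : t ∈ secsIn F S U) (x : X) (a : CohTop.stalk (fr U) x) : stMap (secHom U t) x a ∈ S x := by
  by_cases hx : x ∈ U
  · obtain ⟨n, rfl⟩ := exists_eq_zsmul U x hx a
    rw [stMap_secHom]
    exact zsmul_mem (h x hx) n
  · haveI := subsingleton_stalk U x hx
    rw [Subsingleton.elim a 0, map_zero]
    exact zero_mem _

end Groth.Agent.FreeJ
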