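import Groth.Agent.FreeJ.Sub
import Groth.Agent.TopQC.Colim

/-!
Vanishing of cohomology reduces to free sheaves on quasi-compact opens.
-/

set_option autoImplicit false
set_option linter.style.haveILetI false
set_option linter.unusedSectionVars false
set_option backward.isDefEq.respectTransparency false
set_option backward.isDefEq.respectTransparency.types false

universe u

open CategoryTheory Category Limits Opposite TopologicalSpace Abelian
open Groth.Agent.TopPullModel Groth.Agent.TopCompact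

namespace Groth.Agent.FreeJ

variable {X : TopCat.{u}}

/-- Vanishing of cohomology in degrees above `d`. -/
def SH (d : ℕ) (G : CohTop.Ab X) : Prop :=
  ∀ p : ℕ, d < p → Subsingleton (Ext (fr (⊤ : Opens X)) G p)

variable {d : ℕ} {A B : CohTop.Ab X}

theorem SH.of_iso (e : A ≅ B) (h : SH d A) : SH d B := fun p hp => by
  haveI := h p hp
  refine subsingleton_of_forall_eq 0 fun x => ?_
  have hx : (x.comp (Ext.mk₀ e.inv) (add_zero p)).comp (Ext.mk₀ e.hom) (add_zero p) = x := by
    rw [TopQC.comp_mk₀_mk₀, e.inv_hom_id, Ext.comp_mk₀_id]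
  rw [← hx, Subsingleton.elim (x.comp (Ext.mk₀ e.inv) (add_zero p)) 0, Ext.zero_comp]

theorem SH.of_isZero (h : IsZero A) : SH d A := fun p _ => by
  refine subsingleton_of_forall_eq 0 fun x => ?_
  rw [← Ext.comp_mk₀_id x, h.eq_of_src (𝟙 A) 0, Ext.mk₀_zero, Ext.comp_zero]

theorem SH.quotient {S : ShortComplex (CohTop.Ab X)} (hS : S.ShortExact) (h1 : SH d S.X₁) (h2 : SH d S.X₂) :
    SH d S.X₃ := fun p hp =>
  haveI := h2 p hp
  haveI := h1 (p + 1) (by omega)
  SiteCoh.subsingleton_ext_quotient hS _ p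

theorem SH.extension {S : ShortComplex (CohTop.Ab X)} (hS : S.ShortExact) (h1 : SH d S.X₁) (h3 : SH d S.X₃) :
    SH d S.X₂ := fun p hp => by
  haveI := h1 p hp
  haveI := h3 p hp
  refine subsingleton_of_forall_eq 0 fun x => ?_
  obtain ⟨x₁, rfl⟩ := Ext.covariant_sequence_exact₂ _ hS x (Subsingleton.elim _ _)
  rw [Subsingleton.elim x₁ 0, Ext.zero_comp]

variable {F : CohTop.Ab X}

theorem SH.sub_congr {S S' : ∀ x, AddSubgroup (CohTop.stalk F x)} (e : ∀ x, S x = S' x) (h : SH d (sub F S)) :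
    SH d (sub F S') := by
  obtain rfl : S = S' := funext e
  exact h

theorem isZero_sub_bot {S : ∀ x, AddSubgroup (CohTop.stalk F x)} (h : ∀ x, S x = ⊥) : IsZero (sub F S) := by
  rw [IsZero.iff_id_eq_zero, ← cancel_mono (incl F S), id_comp, zero_comp]
  refine Sheaf.hom_ext (NatTrans.ext (funext fun W => AddCommGrpCat.ext fun (s : secsIn F S W.unop) => ?_))
  refine gm_ext F W.unop _ _ fun x hx => ?_
  have := s.2 x hx
  rw [h x, AddSubgroup.mem_bot] at this
  exact this.trans (map_zero _).symm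

theorem SH.sum {S S' : ∀ x, AddSubgroup (CohTop.stalk F x)} (hS : OpenCond F S) (hS' : OpenCond F S')
    (h : SH d (sub F S)) (h' : SH d (sub F S')) (hI : SH d (sub F fun x => S x ⊓ S' x)) :
    SH d (sub F fun x => S x ⊔ S' x) := by
  let i : sub F S ⟶ sub F (fun x => S x ⊔ S' x) := subLE fun x => le_sup_left
  let j : sub F S' ⟶ sub F (fun x => S x ⊔ S' x) := subLE fun x => le_sup_right
  let a : sub F (fun x => S x ⊓ S' x) ⟶ sub F S := subLE fun x => inf_le_left
  let b : sub F (fun x => S x ⊓ S' x) ⟶ sub F S' := subLE fun x => inf_le_right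
  let S₀ : ShortComplex (CohTop.Ab X) := ShortComplex.mk (biprod.lift a (-b)) (biprod.desc i j) (by
    rw [biprod.lift_desc, Preadditive.neg_comp, ← sub_eq_add_neg, sub_eq_zero]
    rfl)
  haveI : Mono S₀.f := mono_of_mono_fac (biprod.lift_fst a (-b))
  haveI : Epi S₀.g := epi_of_stalk _ fun x c => by
    obtain ⟨p, hp, q, hq, hpq⟩ := AddSubgroup.mem_sup.1 (stMap_incl_mem F (fun x => S x ⊔ S' x) x c)
    obtain ⟨p', hp'⟩ := exists_stMap_incl hS x p hp
    obtain ⟨q', hq'⟩ := exists_stMap_incl hS' x q hq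
    refine ⟨stMap biprod.inl x p' + stMap biprod.inr x q', stalk_injective_of_mono (incl F _) x ?_⟩
    change stMap (incl F _) x (stMap (biprod.desc i j) x _) = _
    rw [map_add, map_add, ← stMap_comp_apply, ← stMap_comp_apply, ← stMap_comp_apply, ← stMap_comp_apply,
      biprod.inl_desc_assoc, biprod.inr_desc_assoc]
    exact (congrArg₂ (· + ·) hp' hq').trans hpq
  have hk : IsLimit (KernelFork.ofι S₀.f S₀.zero) := KernelFork.IsLimit.ofι' S₀.f S₀.zero fun {T} t ht => by
    have hsum : t ≫ biprod.fst ≫ incl F S + t ≫ biprod.snd ≫ incl F S' = 0 := by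
      have h0 : t ≫ biprod.desc i j ≫ incl F (fun x => S x ⊔ S' x) = 0 := by
        rw [← assoc, show t ≫ biprod.desc i j = 0 from ht, zero_comp]
      rw [biprod.desc_eq, Preadditive.add_comp, Preadditive.comp_add] at h0
      simpa [i, j, subLE_incl] using h0
    let φ : T ⟶ F := t ≫ biprod.fst ≫ incl F S
    have hφ : ∀ x c, stMap φ x c ∈ S x ⊓ S' x := fun x c => by
      refine ⟨?_, ?_⟩
      · rw [show φ = (t ≫ biprod.fst) ≫ incl F S from (assoc _ _ _).symm, stMap_comp_apply]
        exact stMap_incl_mem F S x _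
      · rw [show φ = (-(t ≫ biprod.snd)) ≫ incl F S' by
            rw [Preadditive.neg_comp, assoc]; exact eq_neg_of_add_eq_zero_left hsum, stMap_comp_apply]
        exact stMap_incl_mem F S' x _
    refine ⟨liftSub F _ φ hφ, ?_⟩
    apply biprod.hom_ext
    · change (liftSub F _ φ hφ ≫ biprod.lift a (-b)) ≫ biprod.fst = _
      rw [← cancel_mono (incl F S)]
      simp only [assoc, biprod.lift_fst_assoc]
      exact liftSub_incl F _ φ hφ
    · change (liftSub F _ φ hφ ≫ biprod.lift a (-b)) ≫ biprod.snd = _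
      rw [← cancel_mono (incl F S')]
      simp only [assoc, biprod.lift_snd_assoc, Preadditive.neg_comp, Preadditive.comp_neg, b, subLE_incl, liftSub_incl]
      exact (eq_neg_of_add_eq_zero_right hsum).symm
  have hS₀ : S₀.ShortExact := { exact := ShortComplex.exact_of_f_is_kernel _ hk }
  refine SH.quotient hS₀ hI ?_
  let T₀ : ShortComplex (CohTop.Ab X) :=
    ShortComplex.mk (biprod.inl : sub F S ⟶ sub F S ⊞ sub F S') biprod.snd biprod.inl_snd
  exact SH.extension (S := T₀) ((ShortComplex.Splitting.ofHasBinaryBiproduct (sub F S) (sub F S')).shortExact) h h'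

variable {G : Type u} (V : G → Opens X) (s : ∀ g, F.obj.obj (op (V g)))

/-- The finitely generated subsheaves. -/
noncomputable def spanDiag : Finset G ⥤ CohTop.Ab X where
  obj T := sub F (spanSt V s T)
  map {T T'} i := subLE fun x => spanSt_mono V s (leOfHom i) x
  map_id T := (cancel_mono (incl F _)).1 (by rw [subLE_incl, id_comp])
  map_comp {T T' T''} i j := (cancel_mono (incl F _)).1 (by rw [assoc, subLE_incl, subLE_incl, subLE_incl])

variable [PrespectralSpace X] [QuasiSeparatedSpace X] [CompactSpace X]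

/-- A subsheaf covered by finitely generated ones. -/
theorem SH.of_spans (S : ∀ x, AddSubgroup (CohTop.stalk F x)) (hsub : ∀ g, s g ∈ secsIn F S (V g))
    (hgen : ∀ x, ∀ a ∈ S x, a ≠ 0 → ∃ (g : G) (hx : x ∈ V g), gm F (V g) x hx (s g) = a)
    (h : ∀ T : Finset G, SH d (sub F (spanSt V s T))) : SH d (sub F S) := by
  classical
  have hle : ∀ (T : Finset G) x, spanSt V s T x ≤ S x := fun T x =>
    spanSt_le V s S (fun g _ x hx => hsub g x hx) x
  let c : Cocone (spanDiag V s) :=
    { pt := sub F S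
      ι := { app := fun T => subLE (hle T)
             naturality := fun T T' i => (cancel_mono (incl F S)).1 (by
              change (subLE (fun x => spanSt_mono V s (leOfHom i) x) ≫ subLE (hle T')) ≫ incl F S =
                (subLE (hle T) ≫ 𝟙 _) ≫ incl F S
              rw [comp_id, assoc, subLE_incl, subLE_incl, subLE_incl]) } }
  let φ : colimit (spanDiag V s) ⟶ sub F S := colimit.desc _ c
  have hφ : ∀ T : Finset G, colimit.ι (spanDiag V s) T ≫ φ = subLE (hle T) := fun T => colimit.ι_desc c T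
  haveI : Mono φ := mono_of_stalk φ fun x => (injective_iff_map_eq_zero _).2 fun a ha => by
    obtain ⟨T, b, rfl⟩ := TopQC.exists_stalk_rep (colimit.isColimit (spanDiag V s)) x a
    change stMap φ x (stMap (colimit.ι (spanDiag V s) T) x b) = 0 at ha
    rw [← stMap_comp_apply, hφ] at ha
    rw [stalk_injective_of_mono (subLE (hle T)) x (ha.trans (map_zero _).symm), map_zero]
  haveI : Epi φ := epi_of_stalk φ fun x e => by
    by_cases he : stMap (incl F S) x e = 0
    · exact ⟨0, stalk_injective_of_mono (incl F S) x (by rw [map_zero, map_zero, he])⟩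
    obtain ⟨g, hx, hg⟩ := hgen x _ (stMap_incl_mem F S x e) he
    obtain ⟨b, hb⟩ := exists_stMap_incl (openCond_spanSt V s {g}) x _
      (gm_mem_spanSt V s (Finset.mem_singleton_self g) x hx)
    refine ⟨stMap (colimit.ι (spanDiag V s) {g}) x b, stalk_injective_of_mono (incl F S) x ?_⟩
    rw [← stMap_comp_apply, ← stMap_comp_apply, ← assoc, hφ, subLE_incl]
    exact hb.trans hg
  haveI : IsIso φ := isIso_of_mono_of_epi φ
  refine SH.of_iso (asIso φ) fun p hp => subsingleton_of_forall_eq 0 fun z => ?_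
  obtain ⟨T, w, rfl⟩ := (TopQC.bij p (spanDiag V s) ⊤ (by simpa using isCompact_univ)).1 z
  haveI : Subsingleton (Ext (fr (⊤ : Opens X)) ((spanDiag V s).obj T) p) := h T p hp
  exact (congrArg (fun e : Ext (fr (⊤ : Opens X)) ((spanDiag V s).obj T) p => e.comp (Ext.mk₀ _) (add_zero p))
    (Subsingleton.elim w 0)).trans (Ext.zero_comp _ _ _ _ _)

/-- Subgroups of ℤ form a distributive lattice. -/
theorem int_inf_sup (A B C : AddSubgroup ℤ) : (A ⊔ B) ⊓ C = (A ⊓ C) ⊔ (B ⊓ C) := by
  refine le_antisymm (fun m hm => ?_) (sup_le (inf_le_inf_right _ le_sup_left) (inf_le_inf_right _ le_sup_right))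
  obtain ⟨p, hp, q, hq, rfl⟩ := AddSubgroup.mem_sup.1 hm.1
  by_cases hg : Int.gcd p q = 0
  · obtain ⟨rfl, rfl⟩ := Int.gcd_eq_zero_iff.1 hg
    simp
  obtain ⟨a, b, hab⟩ : ∃ a b : ℤ, (Int.gcd p q : ℤ) = p * a + q * b := ⟨_, _, Int.gcd_eq_gcd_ab p q⟩
  obtain ⟨p', hp'⟩ : (Int.gcd p q : ℤ) ∣ p := Int.gcd_dvd_left p q
  obtain ⟨q', hq'⟩ : (Int.gcd p q : ℤ) ∣ q := Int.gcd_dvd_right p q
  have h1 : p * (p' + q') = p' * (p + q) := by linear_combination q' * hp' - p' * hq'
  have h2 : q * (p' + q') = q' * (p + q) := by linear_combination p' * hq' - q' * hp'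
  have h3 : p' * a + q' * b = 1 := by
    apply mul_left_cancel₀ (Int.ofNat_ne_zero.2 hg)
    linear_combination -hab - a * hp' - b * hq'
  have e : p + q = a • ((p' + q') • p) + b • ((p' + q') • q) := by
    simp only [smul_eq_mul]
    linear_combination (-a) * h1 - b * h2 - (p + q) * h3
  rw [e]
  refine AddSubgroup.add_mem_sup (zsmul_mem (show (p' + q') • p ∈ A ⊓ C from ⟨zsmul_mem hp _, ?_⟩) a)
    (zsmul_mem (show (p' + q') • q ∈ B ⊓ C from ⟨zsmul_mem hq _, ?_⟩) b)
  · rw [smul_eq_mul, mul_comm, h1, ← smul_eq_mul]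
    exact C.zsmul_mem hm.2 _
  · rw [smul_eq_mul, mul_comm, h2, ← smul_eq_mul]
    exact C.zsmul_mem hm.2 _

end Groth.Agent.FreeJ
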